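/-
Evaluation of the Sylow group of PΩ(7, 3) on its transversals.
-/
import Cfsg.Agent.Lib.O7Classes.FuseData
import Cfsg.Agent.Lib.O7Mult.SylowData
import Cfsg.Agent.Lib.O7Mult.GroupData
import Cfsg.Agent.Lib.PermChain.Closed

set_option autoImplicit false

namespace CfsgLib.O7Classes

open CfsgPC CfsgLib.O7Mult

/-- The bases of the table of the group. -/
def bs : List ℕ := [0, 1, 3, 9, 10, 36]

/-- The code of a transversal entry of the Sylow group. -/
def tcP (l k : ℕ) : ℕ := (subThree.getD l ⟨0, [], [], []⟩).tc k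

/-- The element numbered `729 a + 27 b + c` at a point. -/
def ev (m i : ℕ) : ℕ := ap (tcP 0 (m / 729)) (ap (tcP 1 (m / 27 % 27)) (ap (tcP 2 (m % 27)) i))

/-- A power of that element. -/
def evN (m : ℕ) : ℕ → ℕ → ℕ
  | 0, i => i
  | k + 1, i => ev m (evN m k i)

/-- The certificate of the element `729 a + 27 b + c`. -/
def certB (a b c : ℕ) : Bool :=
  let v := ((certP.getD a []).getD b 0 >>> (32 * c)) % 4294967296
  let m := 729 * a + 27 * b + c
  if Nat.beq v 0 then (bs.any fun i => !Nat.beq (evN m 3 i) i) || bs.all fun i => Nat.beq (ev m i) i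
  else
    let k := (v - 1) / 19683
    let w := (v - 1) % 19683
    Nat.blt k 126 && bs.all fun i => Nat.beq (ev m (ev w i)) (ev w (ev (repR.getD k 0) i))

/-- The certificates of a row. -/
def rowB (a : ℕ) : Bool := (List.range 27).all fun b => (List.range 27).all fun c => certB a b c

/-- Fusion of a representative into one of the seven. -/
def fuseB (k : ℕ) : Bool :=
  let d := toY.getD k (0, 0, 0, 0)
  isPerm 378 d.1 d.2.1 && sift 378 chain d.1 && Nat.blt d.2.2.1 7 && Nat.blt (repR.getD k 0) 19683 &&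
    (Nat.beq d.2.2.2 1 || Nat.beq d.2.2.2 2) &&
    bs.all fun i => Nat.beq (ap d.1 (ev (repR.getD k 0) i)) (evN (repY.getD d.2.2.1 0) d.2.2.2 (ap d.1 i))

end CfsgLib.O7Classes
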