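/-
Products of three-by-three minors over the triples of seven coordinates.
-/
import Mathlib

set_option autoImplicit false

namespace CfsgLib.O7Classes

/-- The triples of seven coordinates. -/
def triples : List (Fin 7 × Fin 7 × Fin 7) :=
  [(0,1,2),(0,1,3),(0,1,4),(0,1,5),(0,1,6),(0,2,3),(0,2,4),(0,2,5),(0,2,6),(0,3,4),(0,3,5),(0,3,6),(0,4,5),(0,4,6),
   (0,5,6),(1,2,3),(1,2,4),(1,2,5),(1,2,6),(1,3,4),(1,3,5),(1,3,6),(1,4,5),(1,4,6),(1,5,6),(2,3,4),(2,3,5),(2,3,6),
   (2,4,5),(2,4,6),(2,5,6),(3,4,5),(3,4,6),(3,5,6),(4,5,6)]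

variable {R : Type*} [CommRing R]

/-- A minor of three vectors. -/
def mnr (x y z : Fin 7 → R) (S : Fin 7 × Fin 7 × Fin 7) : R :=
  x S.1 * (y S.2.1 * z S.2.2 - y S.2.2 * z S.2.1) - x S.2.1 * (y S.1 * z S.2.2 - y S.2.2 * z S.1) +
    x S.2.2 * (y S.1 * z S.2.1 - y S.2.1 * z S.1)

/-- The scalar product of seven coordinates. -/
def dot (a u : Fin 7 → R) : R :=
  a 0 * u 0 + a 1 * u 1 + a 2 * u 2 + a 3 * u 3 + a 4 * u 4 + a 5 * u 5 + a 6 * u 6

set_option maxHeartbeats 4000000 in
-- a polynomial identity with two thousand monomials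
theorem binet (a b c u v w : Fin 7 → R) :
    dot a u * (dot b v * dot c w - dot c v * dot b w) - dot b u * (dot a v * dot c w - dot c v * dot a w) +
      dot c u * (dot a v * dot b w - dot b v * dot a w) =
      (triples.map fun S => mnr a b c S * mnr u v w S).sum := by
  simp only [triples, List.map_cons, List.map_nil, List.sum_cons, List.sum_nil, mnr, dot]
  ring

end CfsgLib.O7Classes
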