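/-
Pullbacks of packed alternating forms on seven coordinates.
-/
import Cfsg.Agent.Lib.O7Classes.FormData
import Cfsg.Agent.Lib.O7Classes.Minors
import Cfsg.Agent.Lib.O7Classes.FuseDefs
import Cfsg.Agent.Lib.O7Mult.Defs

set_option autoImplicit false

namespace CfsgLib.O7Classes

open CfsgPC CfsgLib.O7Mult

/-- An eight-bit field. -/
def fld (x k : ℕ) : ℕ := (x >>> (8 * k)) % 256

/-- Values packed in eight-bit fields. -/
def pack (f : ℕ → ℕ) : ℕ → ℕ
  | 0 => 0
  | k + 1 => pack f k + f k * 256 ^ k

/-- A form, flattened. -/
def form (i : ℕ) : ℕ := (forms.getD (i / 30) []).getD (i % 30) 0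

/-- The image of a form under a generator. -/
def pullIx (g i : ℕ) : ℕ := ((pulls.getD g []).getD (i / 30) []).getD (i % 30) 0

/-- A unit vector as a list. -/
def unitL (k : ℕ) : List ℕ := (List.range 7).map fun t => if Nat.beq t k then 1 else 0

/-- The rows of a product of reflections. -/
def matOf (w : List (List ℕ)) : List (List ℕ) :=
  (List.range 7).map fun a => (List.range 7).map fun k => co (actN w (unitL k)) a

/-- An entry of a matrix. -/
def entry (M : List (List ℕ)) (a k : ℕ) : ℕ := co (M.getD a []) k

/-- The coordinates of a triple. -/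
def tri (S : ℕ) : Fin 7 × Fin 7 × Fin 7 := triples.getD S (0, 0, 0)

/-- A minor of three listed rows modulo three. -/
def minN (x y z : List ℕ) (S : ℕ) : ℕ :=
  let a := (tri S).1.1
  let b := (tri S).2.1.1
  let c := (tri S).2.2.1
  (co x a * (co y b * co z c + 2 * co y c * co z b) + 2 * co x b * (co y a * co z c + 2 * co y c * co z a) +
    co x c * (co y a * co z b + 2 * co y b * co z a)) % 3

/-- The minors of a triple of rows of a matrix. -/
def minM (M : List (List ℕ)) (T S : ℕ) : ℕ :=
  minN (M.getD (tri T).1.1 []) (M.getD (tri T).2.1.1 []) (M.getD (tri T).2.2.1 []) S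

/-- The rows of minors are those of the matrix. -/
def rowsB (g : ℕ) : Bool :=
  (List.range 35).all fun T => Nat.beq ((minorRows.getD g []).getD T 0) (pack (minM (mats.getD g []) T) 35)

/-- The packed pullback of a packed form. -/
def pullN (g c : ℕ) : ℕ := ((List.range 35).map fun T => fld c T * (minorRows.getD g []).getD T 0).sum

/-- A pullback agrees with a form modulo three. -/
def sameB (x d : ℕ) : Bool := (List.range 35).all fun S => Nat.beq (fld x S % 3) (fld d S)

/-- A generator sends the forms `a ≤ i < b` as listed. -/
def pullB (g a b : ℕ) : Bool :=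
  (List.range (b - a)).all fun d => Nat.blt (pullIx g (a + d)) 1080 &&
    sameB (pullN g (form (a + d))) (form (pullIx g (a + d)))

/-- The forms fixed by a matrix. -/
def fixN (g : ℕ) : ℕ := ((List.range 1080).filter fun i => sameB (pullN g (form i)) (form i)).length

/-- A product of reflections moves one line as a representative does. -/
def yImgB (j i : ℕ) : Bool :=
  let y := actN (yRefl.getD j []) (pt i)
  let z := pt (ev (repY.getD j 0) i)
  (y == z) || (y == negN z)

end CfsgLib.O7Classes
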