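/-
Kernel checks for the forms and the invariants of the seven representatives.
-/
import Cfsg.Agent.Lib.O7Classes.FormDefs

set_option autoImplicit false
set_option maxRecDepth 100000
set_option maxHeartbeats 4000000

namespace CfsgLib.O7Classes

open CfsgPC CfsgLib.O7Mult

theorem unit_minors : ((List.range 35).all fun T => (List.range 35).all fun S =>
    Nat.beq (minN (unitL (tri T).1.1) (unitL (tri T).2.1.1) (unitL (tri T).2.2.1) S) (if Nat.beq T S then 1 else 0)) = true := by
  decide +kernel

theorem tri_ok : ((List.range 35).map tri) = triples := by decide +kernel

theorem minorRows_ok : ((List.range 9).all rowsB) = true := by decide +kernel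

theorem mats_ok : ((List.range 2).all fun g => mats.getD g [] == matOf (genRefl.getD g [])) = true ∧
    ((List.range 7).all fun j => mats.getD (j + 2) [] == matOf (yRefl.getD j [])) = true := by decide +kernel

theorem digits_ok : ((List.range 1080).all fun i => (List.range 35).all fun S => Nat.blt (fld (form i) S) 3) = true := by
  decide +kernel

theorem forms_distinct : ((List.range 1080).all fun i => Nat.beq i 0 || Nat.blt (form (i - 1)) (form i)) = true := by
  decide +kernel

theorem pull0a : pullB 0 0 540 = true := by decide +kernel

theorem pull0b : pullB 0 540 1080 = true := by decide +kernel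

theorem pull1a : pullB 1 0 540 = true := by decide +kernel

theorem pull1b : pullB 1 540 1080 = true := by decide +kernel

theorem yRefl_ok : ((List.range 7).all fun j =>
    Nat.beq ((yRefl.getD j []).length % 2) 0 &&
      (yRefl.getD j []).all (fun v => !Nat.beq (qN v) 0) &&
      Nat.beq (((yRefl.getD j []).map qN).prod % 3) 1 && (List.range 378).all (yImgB j)) = true := by decide +kernel

theorem fix_ok : (List.range 7).map (fun j => fixN (j + 2)) = fixCounts := by decide +kernel

theorem fix378_ok : (List.range 7).map (fun j => ((List.range 378).filter fun i =>
    Nat.beq (ev (repY.getD j 0) i) i).length) = [54, 45, 9, 0, 0, 36, 0] := by decide +kernel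

end CfsgLib.O7Classes
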