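/-
The packed forms are determined by their fields.
-/
import Cfsg.Agent.Lib.O7Classes.FormDefs

set_option autoImplicit false
set_option maxRecDepth 100000
set_option maxHeartbeats 4000000

namespace CfsgLib.O7Classes

theorem pack_ok : ((List.range 1080).all fun i => Nat.beq (pack (fld (form i)) 35) (form i)) = true := by decide +kernel

end CfsgLib.O7Classes
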