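/-
Kernel checks for the subgroups of order three of PΩ(7, 3).
-/
import Cfsg.Agent.Lib.O7Classes.FuseDefs

set_option autoImplicit false
set_option maxRecDepth 100000
set_option maxHeartbeats 4000000

namespace CfsgLib.O7Classes

open CfsgPC CfsgLib.O7Mult

theorem bs_ok : chain.map Level.base = bs := by decide +kernel

theorem trans_ok : ((List.range 3).all fun l => (List.range 27).all fun k =>
    isPerm 378 ((subThree.getD l ⟨0, [], [], []⟩).tc k) ((subThree.getD l ⟨0, [], [], []⟩).ti k)) = true := by
  decide +kernel

theorem closed_ok : ((List.range 3).all fun j => closedOK 378 subThree (gcThree.map Prod.fst) j 0 27) = true ∧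
    ((gensAt 378 subThree (gcThree.map Prod.fst) 3).all fun c => (List.range 378).all fun i => Nat.beq (ap c i) i) =
      true := by decide +kernel

theorem fuse_ok : ((List.range 126).all fuseB) = true := by decide +kernel

theorem repY_ok : (repY.all fun m => Nat.blt m 19683 && (List.range 378).all (fun i => Nat.beq (evN m 3 i) i) &&
    (List.range 378).any fun i => !Nat.beq (ev m i) i) = true ∧ repY.length = 7 := by decide +kernel

theorem row_0 : rowB 0 = true := by decide +kernel

theorem row_1 : rowB 1 = true := by decide +kernel

theorem row_2 : rowB 2 = true := by decide +kernel

theorem row_3 : rowB 3 = true := by decide +kernel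

theorem row_4 : rowB 4 = true := by decide +kernel

theorem row_5 : rowB 5 = true := by decide +kernel

theorem row_6 : rowB 6 = true := by decide +kernel

theorem row_7 : rowB 7 = true := by decide +kernel

theorem row_8 : rowB 8 = true := by decide +kernel

theorem row_9 : rowB 9 = true := by decide +kernel

theorem row_10 : rowB 10 = true := by decide +kernel

theorem row_11 : rowB 11 = true := by decide +kernel

theorem row_12 : rowB 12 = true := by decide +kernel

theorem row_13 : rowB 13 = true := by decide +kernel

theorem row_14 : rowB 14 = true := by decide +kernel

theorem row_15 : rowB 15 = true := by decide +kernel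

theorem row_16 : rowB 16 = true := by decide +kernel

theorem row_17 : rowB 17 = true := by decide +kernel

theorem row_18 : rowB 18 = true := by decide +kernel

theorem row_19 : rowB 19 = true := by decide +kernel

theorem row_20 : rowB 20 = true := by decide +kernel

theorem row_21 : rowB 21 = true := by decide +kernel

theorem row_22 : rowB 22 = true := by decide +kernel

theorem row_23 : rowB 23 = true := by decide +kernel

theorem row_24 : rowB 24 = true := by decide +kernel

theorem row_25 : rowB 25 = true := by decide +kernel

theorem row_26 : rowB 26 = true := by decide +kernel

theorem rows_ok : ∀ a < 27, rowB a = true := fun a ha => by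
  interval_cases a
  · exact row_0
  · exact row_1
  · exact row_2
  · exact row_3
  · exact row_4
  · exact row_5
  · exact row_6
  · exact row_7
  · exact row_8
  · exact row_9
  · exact row_10
  · exact row_11
  · exact row_12
  · exact row_13
  · exact row_14
  · exact row_15
  · exact row_16
  · exact row_17
  · exact row_18
  · exact row_19
  · exact row_20
  · exact row_21
  · exact row_22
  · exact row_23
  · exact row_24
  · exact row_25
  · exact row_26

end CfsgLib.O7Classes
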