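/-
Every subgroup of order three of PΩ(7, 3) is conjugate to one of seven.
-/
import Cfsg.Agent.Lib.O7Classes.FuseChecks
import Cfsg.Agent.Lib.O7Mult.Group
import Cfsg.Agent.Lib.O7Mult.SylowChecks
import Cfsg.Agent.Lib.PermChain.Eval

set_option autoImplicit false
set_option maxRecDepth 30000
set_option linter.style.haveILetI false

namespace CfsgLib.O7Classes

open Equiv Subgroup CfsgPC CfsgLib.O7Mult

attribute [local irreducible] chain gens gcThree subThree certP repR repY toY

/-- The Sylow group. -/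
noncomputable abbrev SylP : Subgroup (Perm (Fin 378)) := genG 378 (gcThree.map Prod.fst)

/-- The element of the Sylow group numbered `729 a + 27 b + c`. -/
noncomputable def el (m : ℕ) : Perm (Fin 378) :=
  decP 378 (tcP 0 (m / 729)) * (decP 378 (tcP 1 (m / 27 % 27)) * decP 378 (tcP 2 (m % 27)))

theorem gc_valid : Valid 378 (gcThree.map Prod.fst) := fun c hc => by
  obtain ⟨d, hd, rfl⟩ := List.mem_map.mp hc
  have h := memThree.1
  simp only [memOK, List.all_eq_true, Bool.and_eq_true] at h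
  exact ⟨_, decP_rep (h d (List.mem_append_left _ hd)).1⟩

theorem sylP_le : SylP ≤ genG 378 (gens.map Prod.fst) := by
  rw [SylP, genG, Subgroup.closure_le]
  rintro g ⟨c, hc, hg⟩
  obtain ⟨d, hd, rfl⟩ := List.mem_map.mp hc
  have h := memThree.1
  simp only [memOK, List.all_eq_true, Bool.and_eq_true] at h
  exact mem_of_sift (by norm_num) small_table small_valid _ _ hg (h d (List.mem_append_left _ hd)).2

theorem sub_tableP : TableOK 378 subThree (gcThree.map Prod.fst) := by
  obtain ⟨hs, hlens, -, -⟩ := subThree_shape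
  refine tableOK_of_checks hs fun j hj i hi => ?_
  have hl : subThree.length = 3 := by simpa using congrArg List.length hlens
  refine of_entriesOK (List.all_eq_true.mp subThree_entries j (List.mem_range.mpr (hl ▸ hj))) (Nat.zero_le _) ?_
  rw [← hlens, List.getD_eq_getElem _ _ (by simpa using hj), List.getElem_map]
  rwa [List.getD_eq_getElem _ _ hj] at hi

theorem sylP_eq : prodSet 378 subThree = SylP ∧ Nat.card SylP = 19683 := by
  obtain ⟨hs, hlens, hsz, -⟩ := subThree_shape
  have hl : subThree.length = 3 := by simpa using congrArg List.length hlens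
  have he : prodSet 378 subThree = SylP := by
    refine table_closed (by norm_num) sub_tableP gc_valid (fun j hj k hk => ?_) fun c hc i hi => ?_
    · refine of_closedOK (List.all_eq_true.mp closed_ok.1 j (List.mem_range.mpr (hl ▸ hj))) (Nat.zero_le _) ?_
      have hlen : (subThree.map fun L => L.tr.length).getD j 0 = 27 := by
        rw [hlens]
        rw [hl] at hj
        interval_cases j <;> rfl
      rw [← hlen, List.getD_eq_getElem _ _ (by simpa using hj), List.getElem_map]
      rwa [List.getD_eq_getElem _ _ hj] at hk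
    · rw [hl] at hc
      exact Nat.eq_of_beq_eq_true (List.all_eq_true.mp (List.all_eq_true.mp closed_ok.2 c hc) i (List.mem_range.mpr hi))
  exact ⟨he, by rw [← hsz, ← (table_products (by norm_num) sub_tableP gc_valid).2, he, ← Nat.card_coe_set_eq]; rfl⟩

theorem tc_rep (l k : ℕ) (hl : l < 3) (hk : k < 27) : Rep 378 (tcP l k) (decP 378 (tcP l k)) :=
  decP_rep (List.all_eq_true.mp (List.all_eq_true.mp trans_ok l (List.mem_range.mpr hl)) k (List.mem_range.mpr hk))

theorem ev_el {m : ℕ} (hm : m < 19683) (i : Fin 378) : ev m i = (el m i : ℕ) := by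
  rw [ev, tc_rep 2 _ (by norm_num) (Nat.mod_lt _ (by norm_num)), tc_rep 1 _ (by norm_num) (Nat.mod_lt _ (by norm_num)),
    tc_rep 0 _ (by norm_num) (by omega)]
  rfl

theorem evN_el {m : ℕ} (hm : m < 19683) : ∀ (e : ℕ) (i : Fin 378), evN m e i = ((el m ^ e) i : ℕ)
  | 0, i => rfl
  | e + 1, i => by rw [evN, evN_el hm e i, ev_el hm, pow_succ', Perm.mul_apply]

theorem el_mem {m : ℕ} (hm : m < 19683) : el m ∈ SylP := by
  have hmem : el m ∈ prodSet 378 subThree := by
    obtain ⟨-, hlens, -, -⟩ := subThree_shape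
    rcases hsub : subThree with _ | ⟨L0, _ | ⟨L1, _ | ⟨L2, _ | ⟨L3, t⟩⟩⟩⟩ <;> rw [hsub] at hlens <;>
      simp at hlens
    obtain ⟨h0, h1, h2⟩ := hlens
    have e0 : tcP 0 (m / 729) = L0.tc (m / 729) := by rw [tcP, hsub]; rfl
    have e1 : tcP 1 (m / 27 % 27) = L1.tc (m / 27 % 27) := by rw [tcP, hsub]; rfl
    have e2 : tcP 2 (m % 27) = L2.tc (m % 27) := by rw [tcP, hsub]; rfl
    refine ⟨m / 729, by omega, _, e0 ▸ tc_rep 0 _ (by norm_num) (by omega), _,
      ⟨m / 27 % 27, by omega, _, e1 ▸ tc_rep 1 _ (by norm_num) (Nat.mod_lt _ (by norm_num)), _,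
        ⟨m % 27, by omega, _, e2 ▸ tc_rep 2 _ (by norm_num) (Nat.mod_lt _ (by norm_num)), 1, rfl, (mul_one _).symm⟩,
        rfl⟩, rfl⟩
  rw [sylP_eq.1] at hmem
  exact hmem

theorem exists_el {g : Perm (Fin 378)} (hg : g ∈ SylP) : ∃ a < 27, ∃ b < 27, ∃ c < 27, g = el (729 * a + 27 * b + c) := by
  have hmem : g ∈ prodSet 378 subThree := by rw [sylP_eq.1]; exact hg
  obtain ⟨-, hlens, -, -⟩ := subThree_shape
  rcases hsub : subThree with _ | ⟨L0, _ | ⟨L1, _ | ⟨L2, _ | ⟨L3, t⟩⟩⟩⟩ <;> rw [hsub] at hlens <;>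
    simp at hlens
  obtain ⟨h0, h1, h2⟩ := hlens
  rw [hsub] at hmem
  obtain ⟨a, ha, T0, hT0, y, ⟨b, hb, T1, hT1, z, ⟨c, hc, T2, hT2, w, hw, rfl⟩, rfl⟩, rfl⟩ := hmem
  refine ⟨a, by omega, b, by omega, c, by omega, ?_⟩
  rw [show w = 1 from hw, mul_one]
  have e0 : tcP 0 a = L0.tc a := by rw [tcP, hsub]; rfl
  have e1 : tcP 1 b = L1.tc b := by rw [tcP, hsub]; rfl
  have e2 : tcP 2 c = L2.tc c := by rw [tcP, hsub]; rfl
  rw [el, show (729 * a + 27 * b + c) / 729 = a by omega, show (729 * a + 27 * b + c) / 27 % 27 = b by omega,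
    show (729 * a + 27 * b + c) % 27 = c by omega, e0, e1, e2, decP_eq hT0, decP_eq hT1, decP_eq hT2]

variable (hp : prodSet 378 chain = genG 378 (gens.map Prod.fst))

include hp

/-- Two elements of the group agreeing on the bases are equal. -/
theorem agree {g h : Perm (Fin 378)} (hg : g ∈ genG 378 (gens.map Prod.fst)) (hh : h ∈ genG 378 (gens.map Prod.fst))
    (e : ∀ i : Fin 378, (i : ℕ) ∈ bs → g i = h i) : g = h := by
  have hlen : chain.length = bs.length := by rw [← bs_ok, List.length_map]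
  have key : ∀ f ∈ genG 378 (gens.map Prod.fst), (∀ i : Fin 378, (i : ℕ) ∈ bs → f i = g i) →
      ∃ c, liftC 378 chain (bs.map fun b => if hb : b < 378 then (g ⟨b, hb⟩ : ℕ) else 0) = some c ∧ Rep 378 c f := by
    intro f hf hfe
    refine lift_sound (by norm_num) small_table small_valid f (by rw [hp]; exact hf) _ (by rw [List.length_map, hlen]) ?_
    intro j hj b hb
    rw [bs_ok, List.getD_eq_getElem _ _ (hlen ▸ hj)] at hb
    rw [List.getD_eq_getElem _ _ (by rw [List.length_map, ← hlen]; exact hj), List.getElem_map, ← hb, dif_pos b.2,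
      hfe b (hb ▸ List.getElem_mem _)]
  obtain ⟨c, hc, hcg⟩ := key g hg fun _ _ => rfl
  obtain ⟨d, hd, hdh⟩ := key h hh fun i hi => (e i hi).symm
  obtain rfl := Option.some.inj (hc.symm.trans hd)
  exact hcg.unique hdh

theorem fuse_rep {k : ℕ} (hk : k < 126) : ∃ j < 7, ∃ t ∈ genG 378 (gens.map Prod.fst), ∃ e,
    repR.getD k 0 < 19683 ∧ repY.getD j 0 < 19683 ∧ t * el (repR.getD k 0) = el (repY.getD j 0) ^ e * t := by
  have h := List.all_eq_true.mp fuse_ok k (List.mem_range.mpr hk)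
  simp only [fuseB, Bool.and_eq_true, Nat.blt_eq, List.all_eq_true] at h
  obtain ⟨⟨⟨⟨⟨hperm, hsift⟩, hj⟩, hr⟩, -⟩, hall⟩ := h
  set d := toY.getD k (0, 0, 0, 0)
  have ht := decP_rep hperm
  have htm := mem_of_sift (by norm_num) small_table small_valid _ _ ht hsift
  have hy : repY.getD d.2.2.1 0 < 19683 := by
    have hj' : d.2.2.1 < repY.length := repY_ok.2.symm ▸ hj
    have := List.all_eq_true.mp repY_ok.1 _ (List.getElem_mem hj')
    simp only [Bool.and_eq_true, Nat.blt_eq] at this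
    rw [List.getD_eq_getElem _ _ hj']
    exact this.1.1
  refine ⟨_, hj, _, htm, d.2.2.2, hr, hy, agree hp (mul_mem htm (sylP_le (el_mem hr)))
    (mul_mem (pow_mem (sylP_le (el_mem hy)) _) htm) fun i hi => Fin.ext ?_⟩
  have := Nat.eq_of_beq_eq_true (hall i hi)
  rwa [ev_el hr, ht, ht, evN_el hy] at this

/-- Each element of order three of the Sylow group is conjugate to a power of one of the seven. -/
theorem fuse_el {x : Perm (Fin 378)} (hx : x ∈ SylP) (h3 : x ^ 3 = 1) (h1 : x ≠ 1) : ∃ j < 7,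
    ∃ t ∈ genG 378 (gens.map Prod.fst), ∃ e, repY.getD j 0 < 19683 ∧ t * x * t⁻¹ = el (repY.getD j 0) ^ e := by
  obtain ⟨a, ha, b, hb, c, hc, rfl⟩ := exists_el hx
  have h := List.all_eq_true.mp (List.all_eq_true.mp (rows_ok a ha) b (List.mem_range.mpr hb)) c (List.mem_range.mpr hc)
  have hm : 729 * a + 27 * b + c < 19683 := by omega
  have hbs : ∀ i ∈ bs, i < 378 := by decide
  simp only [certB] at h
  generalize 729 * a + 27 * b + c = m at h h3 h1 hm
  generalize ((certP.getD a []).getD b 0 >>> (32 * c)) % 4294967296 = v at h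
  by_cases hv : Nat.beq v 0 = true
  · rw [if_pos hv] at h
    simp only [Bool.or_eq_true, List.any_eq_true, List.all_eq_true, Bool.not_eq_true'] at h
    rcases h with ⟨i, hi, hne⟩ | hfix
    · rw [evN_el hm 3 ⟨i, hbs i hi⟩, h3] at hne
      simp at hne
    · refine absurd (agree hp (sylP_le (el_mem hm)) (one_mem _) fun i hi => Fin.ext ?_) h1
      rw [← ev_el hm, Nat.eq_of_beq_eq_true (hfix i hi)]
      rfl
  rw [if_neg hv] at h
  simp only [Bool.and_eq_true, Nat.blt_eq, List.all_eq_true] at h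
  obtain ⟨hk, hall⟩ := h
  have hw : (v - 1) % 19683 < 19683 := Nat.mod_lt _ (by norm_num)
  obtain ⟨j, hj, t, ht, e, hr, hy, het⟩ := fuse_rep hp hk
  have heq : el m * el ((v - 1) % 19683) = el ((v - 1) % 19683) * el (repR.getD ((v - 1) / 19683) 0) := by
    refine agree hp (mul_mem (sylP_le (el_mem hm)) (sylP_le (el_mem hw)))
      (mul_mem (sylP_le (el_mem hw)) (sylP_le (el_mem hr))) fun i hi => Fin.ext ?_
    have := Nat.eq_of_beq_eq_true (hall i hi)
    rwa [ev_el hw, ev_el hm, ev_el hr, ev_el hw] at this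
  refine ⟨j, hj, t * (el ((v - 1) % 19683))⁻¹, mul_mem ht (inv_mem (sylP_le (el_mem hw))), e, hy, ?_⟩
  rw [mul_inv_rev, inv_inv, mul_assoc t, mul_assoc t, ← mul_assoc _ (el ((v - 1) % 19683)), mul_assoc _ (el m), heq,
    inv_mul_cancel_left, ← mul_assoc, het, mul_assoc, mul_inv_cancel, mul_one]

omit hp in
theorem y_facts {j : ℕ} (hj : j < 7) : repY.getD j 0 < 19683 ∧ el (repY.getD j 0) ^ 3 = 1 ∧ el (repY.getD j 0) ≠ 1 := by
  have hj' : j < repY.length := repY_ok.2.symm ▸ hj
  have h := List.all_eq_true.mp repY_ok.1 _ (List.getElem_mem hj')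
  rw [List.getD_eq_getElem _ _ hj']
  simp only [Bool.and_eq_true, Nat.blt_eq, List.all_eq_true, List.any_eq_true, List.mem_range, Bool.not_eq_true'] at h
  obtain ⟨⟨hlt, hpow⟩, i, hi, hne⟩ := h
  refine ⟨hlt, Equiv.ext fun k => Fin.ext ?_, fun e => ?_⟩
  · rw [← evN_el hlt, Nat.eq_of_beq_eq_true (hpow k k.2)]
    rfl
  · rw [ev_el hlt ⟨i, hi⟩, e] at hne
    simp at hne

omit hp in
/-- The seven generators in the group. -/
noncomputable def yS (j : Fin 7) : SmallO := ⟨el (repY.getD j 0), sylP_le (el_mem (y_facts j.2).1)⟩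

omit hp in
theorem yS_order (j : Fin 7) : yS j ^ 3 = 1 ∧ yS j ≠ 1 :=
  ⟨Subtype.ext (y_facts j.2).2.1, fun e => (y_facts j.2).2.2 (congrArg Subtype.val e)⟩

omit hp in
theorem yS_card (j : Fin 7) : Nat.card (zpowers (yS j)) = 3 := by
  haveI : Fact (Nat.Prime 3) := ⟨Nat.prime_three⟩
  rw [Nat.card_zpowers, orderOf_eq_prime (yS_order j).1 (yS_order j).2]

theorem cover (hcard : Nat.card SmallO = 4585351680) (X : Subgroup SmallO) (hX : Nat.card X = 3) :
    ∃ j : Fin 7, ∃ g : SmallO, X.map (MulAut.conj g).toMonoidHom = zpowers (yS j) := by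
  classical
  haveI : Fact (Nat.Prime 3) := ⟨Nat.prime_three⟩
  let P : Subgroup SmallO := SylP.subgroupOf (genG 378 (gens.map Prod.fst))
  have hP : Nat.card P = 19683 := (Nat.card_congr (Subgroup.subgroupOfEquivOfLe sylP_le).toEquiv).trans sylP_eq.2
  have hf : 3 ^ (Nat.card SmallO).factorization 3 = 19683 := by
    rw [hcard, show 4585351680 = 3 ^ 9 * 232960 by norm_num,
      Nat.factorization_mul (by norm_num) (by norm_num), Nat.Prime.factorization_pow Nat.prime_three,
      Finsupp.add_apply, Finsupp.single_eq_same, Nat.factorization_eq_zero_of_not_dvd (by norm_num)]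
    rfl
  let S : Sylow 3 SmallO := Sylow.ofCard P (hP.trans hf.symm)
  obtain ⟨Q, hQ⟩ := (IsPGroup.of_card (n := 1) (by rw [hX, pow_one]) : IsPGroup 3 X).exists_le_sylow
  obtain ⟨u, hu⟩ := MulAction.exists_smul_eq SmallO Q S
  obtain ⟨x, hx⟩ := (isCyclic_of_prime_card hX).exists_generator
  have hXz : zpowers x.1 = X := by
    refine le_antisymm (zpowers_le.mpr x.2) fun y hy => ?_
    obtain ⟨k, hk⟩ := mem_zpowers_iff.mp (hx ⟨y, hy⟩)
    exact ⟨k, by simpa using congrArg Subtype.val hk⟩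
  have hx3 : x.1 ^ 3 = 1 := by
    rw [← SubgroupClass.coe_pow, ← hX, pow_card_eq_one', OneMemClass.coe_one]
  have hx1 : x.1 ≠ 1 := fun e => by
    rw [← hXz, e, zpowers_one_eq_bot, Subgroup.card_bot] at hX
    norm_num at hX
  have hmem : MulAut.conj u x.1 ∈ P := by
    have : MulAut.conj u • x.1 ∈ (u • Q : Sylow 3 SmallO).toSubgroup := by
      rw [Sylow.coe_subgroup_smul]
      exact Subgroup.smul_mem_pointwise_smul _ _ _ (hQ x.2)
    rw [hu] at this
    exact this
  obtain ⟨j, hj, t, ht, e, hy, het⟩ := fuse_el hp (x := (MulAut.conj u x.1).1) hmem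
    (by rw [← SubgroupClass.coe_pow, ← map_pow, hx3, map_one]; rfl)
    (fun h => hx1 ((map_eq_one_iff _ (MulAut.conj u).injective).mp (Subtype.ext h)))
  refine ⟨⟨j, hj⟩, ⟨t, ht⟩ * u, ?_⟩
  have key : MulAut.conj (⟨t, ht⟩ * u) x.1 = yS ⟨j, hj⟩ ^ e := by
    rw [map_mul, MulAut.mul_apply]
    exact Subtype.ext het
  refine Subgroup.eq_of_le_of_card_ge ?_ ?_
  · rw [← hXz, MonoidHom.map_zpowers, zpowers_le]
    show MulAut.conj (⟨t, ht⟩ * u) x.1 ∈ _
    rw [key]
    exact pow_mem (mem_zpowers _) _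
  · rw [yS_card, Subgroup.card_map_of_injective (MulAut.conj (⟨t, ht⟩ * u)).injective, hX]

end CfsgLib.O7Classes
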