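/-
Two invariants separate the seven subgroups of order three of PΩ(7, 3).
-/
import Cfsg.Agent.Lib.O7Classes.FormChecks
import Cfsg.Agent.Lib.O7Classes.FormPack
import Cfsg.Agent.Lib.O7Classes.Fuse

set_option autoImplicit false
set_option maxRecDepth 30000
set_option linter.unusedSectionVars false
set_option linter.style.haveILetI false

namespace CfsgLib.O7Classes

open Equiv Subgroup CfsgPC QuadraticMap CfsgLib.O7Mult
open CfsgLib.StdQuadForms (Qo Qo_apply Qo_nondeg)
open scoped Matrix

universe u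

attribute [local irreducible] chain gens genRefl pts forms pulls mats minorRows yRefl repY subThree

theorem fld_pack_add (f : ℕ → ℕ) (hf : ∀ i, f i < 256) : ∀ k, pack f k < 256 ^ k ∧ ∀ S < k, fld (pack f k) S = f S := by
  intro k
  induction k with
  | zero => simp [pack]
  | succ k ih =>
    obtain ⟨h1, h2⟩ := ih
    have := hf k
    refine ⟨?_, fun S hS => ?_⟩
    · rw [pack, pow_succ]
      calc pack f k + f k * 256 ^ k < 256 ^ k + f k * 256 ^ k := by omega
        _ = (f k + 1) * 256 ^ k := by ring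
        _ ≤ 256 * 256 ^ k := by gcongr; omega
        _ = _ := by ring
    · have e8 : ∀ n, 2 ^ (8 * n) = 256 ^ n := fun n => by rw [pow_mul]; norm_num
      simp only [fld, pack, Nat.shiftRight_eq_div_pow, e8] at h2 ⊢
      rcases Nat.lt_succ_iff_lt_or_eq.mp hS with hSk | rfl
      · rw [← h2 S hSk]
        obtain ⟨d, rfl⟩ : ∃ d, k = S + (d + 1) := ⟨k - S - 1, by omega⟩
        rw [show f (S + (d + 1)) * 256 ^ (S + (d + 1)) = f (S + (d + 1)) * 256 ^ d * 256 * 256 ^ S by ring,
          Nat.add_mul_div_right _ _ (by positivity), Nat.add_mul_mod_self_right]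
      · rw [Nat.add_mul_div_right _ _ (by positivity), Nat.div_eq_of_lt h1, Nat.zero_add, Nat.mod_eq_of_lt this]

theorem pack_linear (c : ℕ → ℕ) (W : ℕ → ℕ → ℕ) (n : ℕ) : ∀ k,
    ∑ T ∈ Finset.range n, c T * pack (W T) k = pack (fun S => ∑ T ∈ Finset.range n, c T * W T S) k := by
  intro k
  induction k with
  | zero => simp [pack]
  | succ k ih =>
    simp only [pack, mul_add, Finset.sum_add_distrib, ih, Finset.sum_mul, mul_assoc]

theorem sum_range_list (f : ℕ → ℕ) (n : ℕ) : ((List.range n).map f).sum = ∑ T ∈ Finset.range n, f T := by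
  induction n with
  | zero => simp
  | succ n ih => rw [List.range_succ, List.map_append, List.sum_append, ih, Finset.sum_range_succ]; simp

theorem pull_fld {g : ℕ} (hg : g < 9) {i : ℕ} (hi : i < 1080) {S : ℕ} (hS : S < 35) :
    fld (pullN g (form i)) S = ∑ T ∈ Finset.range 35, fld (form i) T * minM (mats.getD g []) T S := by
  have hrow := List.all_eq_true.mp minorRows_ok g (List.mem_range.mpr hg)
  simp only [rowsB, List.all_eq_true, List.mem_range] at hrow
  have hd : ∀ T < 35, fld (form i) T < 3 := fun T hT => by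
    have := List.all_eq_true.mp (List.all_eq_true.mp digits_ok i (List.mem_range.mpr hi)) T (List.mem_range.mpr hT)
    exact Nat.le_of_ble_eq_true this
  rw [pullN, sum_range_list, Finset.sum_congr rfl fun T hT => by
    rw [Nat.eq_of_beq_eq_true (hrow T (Finset.mem_range.mp hT))], pack_linear]
  refine (fld_pack_add _ (fun S => ?_) 35).2 S hS
  refine lt_of_le_of_lt (Finset.sum_le_card_nsmul _ _ 4 fun T hT => ?_) (by simp)
  have h1 := hd T (Finset.mem_range.mp hT)
  have h2 : minM (mats.getD g []) T S < 3 := Nat.mod_lt _ (by norm_num)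
  calc fld (form i) T * minM (mats.getD g []) T S ≤ 2 * 2 := by gcongr <;> omega
    _ = 4 := by norm_num

section Field

variable {F : Type u} [Field F] [Fintype F] (hF : Fintype.card F = 3)

/-- The coordinate with a given place. -/
def idx : Fin 7 → Idx :=
  ![.inl (), .inr (.inl 0), .inr (.inl 1), .inr (.inl 2), .inr (.inr 0), .inr (.inr 1), .inr (.inr 2)]

theorem pos_idx : ∀ t : Fin 7, pos (idx t) = t := by decide

theorem idx_surj : ∀ s : Idx, ∃ t : Fin 7, idx t = s := by decide

/-- The coordinates of a vector in their order. -/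
def cd (v : Idx → F) : Fin 7 → F := fun t => v (idx t)

/-- A form from coefficients. -/
def phi (f : ℕ → F) (u v w : Idx → F) : F := ∑ S ∈ Finset.range 35, f S * mnr (cd u) (cd v) (cd w) (tri S)

/-- The coefficients of a listed form. -/
def cf (i : ℕ) : ℕ → F := fun S => (fld (form i) S : F)

include hF

theorem cast_minN (x y z : List ℕ) (S : ℕ) :
    (minN x y z S : F) = mnr (cd (vec F x)) (cd (vec F y)) (cd (vec F z)) (tri S) := by
  have h3 := three_zero hF
  rw [minN, cast_mod hF]
  simp only [cd, vec, pos_idx, mnr, Nat.cast_add, Nat.cast_mul, Nat.cast_ofNat]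
  linear_combination ((co y (tri S).2.2.1 : F) * co z (tri S).2.1.1 * co x (tri S).1.1 +
    co x (tri S).2.1.1 * co y (tri S).1.1 * co z (tri S).2.2.1 + co x (tri S).2.1.1 * co y (tri S).2.2.1 * co z (tri S).1.1 +
    co x (tri S).2.2.1 * co y (tri S).2.1.1 * co z (tri S).1.1) * h3

theorem phi_unit (f : ℕ → F) {T : ℕ} (hT : T < 35) :
    phi f (vec F (unitL (tri T).1.1)) (vec F (unitL (tri T).2.1.1)) (vec F (unitL (tri T).2.2.1)) = f T := by
  rw [phi, Finset.sum_eq_single T]
  · have := List.all_eq_true.mp (List.all_eq_true.mp unit_minors T (List.mem_range.mpr hT)) T (List.mem_range.mpr hT)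
    rw [← cast_minN hF, Nat.eq_of_beq_eq_true this, if_pos (Nat.beq_refl T), Nat.cast_one, mul_one]
  · intro S hS hne
    have := List.all_eq_true.mp (List.all_eq_true.mp unit_minors T (List.mem_range.mpr hT)) S
      (List.mem_range.mpr (Finset.mem_range.mp hS))
    rw [← cast_minN hF, Nat.eq_of_beq_eq_true this, if_neg (fun e => hne (Nat.eq_of_beq_eq_true e).symm),
      Nat.cast_zero, mul_zero]
  · exact fun h => absurd (Finset.mem_range.mpr hT) h

theorem form_lt {i S : ℕ} (hi : i < 1080) (hS : S < 35) : fld (form i) S < 3 :=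
  Nat.le_of_ble_eq_true (List.all_eq_true.mp (List.all_eq_true.mp digits_ok i (List.mem_range.mpr hi)) S
    (List.mem_range.mpr hS))

theorem sameB_iff {x i : ℕ} (hi : i < 1080) :
    sameB x (form i) = true ↔ ∀ S < 35, (fld x S : F) = cf i S := by
  simp only [sameB, List.all_eq_true, List.mem_range]
  refine forall₂_congr fun S hS => ⟨fun h => ?_, fun h => ?_⟩
  · rw [cf, ← Nat.eq_of_beq_eq_true h, cast_mod hF]
  · rw [cast_inj hF (Nat.mod_lt _ (by norm_num)) (form_lt hF hi hS) ((cast_mod hF _).trans h)]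
    exact Nat.beq_refl _

theorem phi_ext {f f' : ℕ → F} : phi f = phi f' ↔ ∀ S < 35, f S = f' S := by
  refine ⟨fun h S hS => ?_, fun h => ?_⟩
  · rw [← phi_unit hF f hS, h, phi_unit hF f' hS]
  · funext u v w
    exact Finset.sum_congr rfl fun S hS => by rw [h S (Finset.mem_range.mp hS)]

omit hF in
/-- A row of a listed matrix. -/
def row (M : List (List ℕ)) (a : Fin 7) : Fin 7 → F := cd (vec F (M.getD a.1 []))

omit hF in
theorem sum_triples (f : Fin 7 × Fin 7 × Fin 7 → F) : (triples.map f).sum = ∑ S ∈ Finset.range 35, f (tri S) := by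
  rw [← tri_ok, List.map_map]
  generalize 35 = n
  induction n with
  | zero => simp
  | succ n ih => rw [List.range_succ, List.map_append, List.sum_append, ih, Finset.sum_range_succ]; simp

theorem phi_act {g : ℕ} (hg : g < 9) (A : Matrix Idx Idx F)
    (hA : ∀ (v : Idx → F) (t : Fin 7), cd (A *ᵥ v) t = dot (row (mats.getD g []) t) (cd v)) {i : ℕ} (hi : i < 1080)
    (u v w : Idx → F) :
    phi (cf i) (A *ᵥ u) (A *ᵥ v) (A *ᵥ w) = phi (fun S => (fld (pullN g (form i)) S : F)) u v w := by
  have key : ∀ T, mnr (cd (A *ᵥ u)) (cd (A *ᵥ v)) (cd (A *ᵥ w)) (tri T) =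
      ∑ S ∈ Finset.range 35, (minM (mats.getD g []) T S : F) * mnr (cd u) (cd v) (cd w) (tri S) := by
    intro T
    simp only [minM, cast_minN hF]
    rw [← sum_triples (fun S => mnr (cd (vec F _)) (cd (vec F _)) (cd (vec F _)) S * mnr (cd u) (cd v) (cd w) S),
      ← binet]
    simp only [mnr, hA, row]
  simp only [phi, key, Finset.mul_sum]
  rw [Finset.sum_comm]
  refine Finset.sum_congr rfl fun S hS => ?_
  rw [pull_fld hg hi (Finset.mem_range.mp hS), Nat.cast_sum, Finset.sum_mul]
  exact Finset.sum_congr rfl fun T _ => by rw [Nat.cast_mul, cf, mul_assoc]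

theorem vec_unit (k : Fin 7) : vec F (unitL k) = Pi.single (idx k) (1 : F) := by
  funext s
  obtain ⟨t, rfl⟩ := idx_surj s
  rw [unitL, vec_map hF, pos_idx]
  by_cases h : t = k
  · subst h
    simp
  · rw [Pi.single_eq_of_ne (fun e => h (by simpa [pos_idx, Fin.ext_iff] using congrArg pos e)),
      if_neg (fun e => h (Fin.ext (Nat.eq_of_beq_eq_true e))), Nat.cast_zero]

/-- The rows of a matrix from the images of the unit vectors. -/
theorem rows_of_word {A : Matrix Idx Idx F} {W : List (List ℕ)}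
    (hA : ∀ x, A *ᵥ vec F x = vec F (actN W x)) (v : Idx → F) (t : Fin 7) :
    cd (A *ᵥ v) t = dot (row (matOf W) t) (cd v) := by
  have he : ∀ k : Fin 7, A (idx t) (idx k) = row (matOf W) t k := by
    intro k
    have h := congrFun (hA (unitL k)) (idx t)
    rw [vec_unit hF, Matrix.mulVec_single_one, Matrix.col_apply] at h
    rw [h, row, cd, matOf, List.getD_eq_getElem _ _ (by simp), List.getElem_map, List.getElem_range, vec_map hF,
      vec, pos_idx, pos_idx]
  show A (idx t) ⬝ᵥ v = _
  simp only [dotProduct, Fintype.sum_sum_type, Fintype.sum_unique, Fin.sum_univ_three, dot, ← he, cd]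
  simp [idx]
  ring

/-- A product of reflections of spinor norm one as an element of Ω. -/
theorem omega_word {W : List (List ℕ)} (hev : W.length % 2 = 0) (hne : ∀ v ∈ W, qN v ≠ 0)
    (hpr : (W.map qN).prod % 3 = 1) : ∃ g : Cfsg.Omega F ⇑(Qo (F := F) 3), ∀ x : List ℕ,
      g.1.1.1 *ᵥ vec F x = vec F (actN W x) := by
  classical
  have hQ := Qo_nondeg (two_ne hF) 3
  have hne2 : ∀ v ∈ W.map (vec F), Qo (F := F) 3 v ≠ 0 := fun v hv e => by
    obtain ⟨l, hl, rfl⟩ := List.mem_map.mp hv
    rw [← cast_qN hF] at e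
    exact hne l hl (cast_inj hF (Nat.mod_lt _ (by norm_num)) (by norm_num) (e.trans Nat.cast_zero.symm))
  obtain ⟨g, hg, -⟩ := CfsgLib.OmegaMem.exists_refl_prod (Qo (F := F) 3) (two_ne hF) hQ _ hne2
  have hmem : g ∈ Cfsg.Omega F ⇑(Qo (F := F) 3) := by
    refine (CfsgLib.OmegaMem.omega_iff_prod _ (two_ne hF) (by simp) hQ g _ hne2 hg).mpr ⟨?_, ?_⟩
    · rw [List.length_map]
      exact Nat.even_iff.mpr hev
    · have hcast : ∀ w : List (List ℕ), (((w.map qN).prod : ℕ) : F) = ((w.map (vec F)).map fun v => Qo 3 v).prod := by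
        intro w
        induction w with
        | nil => simp
        | cons v w ih => simp [← cast_qN hF, ih]
      rw [← hcast, ← cast_mod hF, hpr, Nat.cast_one]
      exact IsSquare.one
  exact ⟨⟨g, hmem⟩, fun x => by
    show g.1.1 *ᵥ _ = _
    rw [hg, vec_act hF _ hne x]⟩

omit hF in
/-- The image of a set of vectors. -/
def img (g : Cfsg.Omega F ⇑(Qo (F := F) 3)) (s : Set (Idx → F)) : Set (Idx → F) := (fun v => g.1.1.1 *ᵥ v) '' s

omit hF in
theorem img_mul (g h : Cfsg.Omega F ⇑(Qo (F := F) 3)) (s : Set (Idx → F)) : img (g * h) s = img g (img h s) := by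
  simp only [img, Set.image_image, Matrix.mulVec_mulVec]
  rfl

omit hF in
theorem img_one (s : Set (Idx → F)) : img (1 : Cfsg.Omega F ⇑(Qo (F := F) 3)) s = s := by
  show (fun v => (1 : Matrix Idx Idx F) *ᵥ v) '' s = s
  simp

/-- A word moving the listed vectors as a permutation moves their lines. -/
theorem img_line {W : List (List ℕ)} {g : Cfsg.Omega F ⇑(Qo (F := F) 3)}
    (hg : ∀ x : List ℕ, g.1.1.1 *ᵥ vec F x = vec F (actN W x)) {i k : Fin 378}
    (h : ((actN W (pt i) == pt k) || (actN W (pt i) == negN (pt k))) = true) : img g (line F i) = line F k := by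
  show (fun v => g.1.1.1 *ᵥ v) '' line F i = line F k
  simp only [Bool.or_eq_true, beq_iff_eq] at h
  rw [line, Set.image_pair, Matrix.mulVec_neg, hg, line]
  rcases h with h | h <;> rw [h]
  rw [vec_neg hF _ (pt_facts hF k).2.1, neg_neg, Set.pair_comm]

omit hF in
/-- The listed forms are sent to listed forms. -/
def Perms (g : Cfsg.Omega F ⇑(Qo (F := F) 3)) : Prop := ∀ i : Fin 1080, ∃ j : Fin 1080,
  ∀ u v w, phi (cf (F := F) i) (g.1.1.1 *ᵥ u) (g.1.1.1 *ᵥ v) (g.1.1.1 *ᵥ w) = phi (cf j) u v w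

omit hF in
theorem perms_mul {g h : Cfsg.Omega F ⇑(Qo (F := F) 3)} (hg : Perms g) (hh : Perms h) : Perms (g * h) := by
  intro i
  obtain ⟨j, hj⟩ := hg i
  obtain ⟨k, hk⟩ := hh j
  refine ⟨k, fun u v w => ?_⟩
  show phi (cf i) ((g.1.1.1 * h.1.1.1) *ᵥ u) ((g.1.1.1 * h.1.1.1) *ᵥ v) ((g.1.1.1 * h.1.1.1) *ᵥ w) = _
  rw [← Matrix.mulVec_mulVec, ← Matrix.mulVec_mulVec, ← Matrix.mulVec_mulVec, hj, hk]

omit hF in
theorem perms_one : Perms (1 : Cfsg.Omega F ⇑(Qo (F := F) 3)) := fun i => ⟨i, fun u v w => by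
  show phi _ ((1 : Matrix Idx Idx F) *ᵥ u) ((1 : Matrix Idx Idx F) *ᵥ v) ((1 : Matrix Idx Idx F) *ᵥ w) = _
  simp⟩

theorem forms_inj {i j : Fin 1080} (h : phi (cf (F := F) i) = phi (cf j)) : i = j := by
  have hlt : ∀ a b : ℕ, a < b → b < 1080 → form a < form b := by
    intro a b hab
    induction b with
    | zero => omega
    | succ b ih =>
      intro hb
      have hstep : form b < form (b + 1) := by
        have h := List.all_eq_true.mp forms_distinct (b + 1) (List.mem_range.mpr hb)
        simp only [Bool.or_eq_true, Nat.blt_eq, Nat.add_sub_cancel] at h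
        rcases h with h | h
        · exact absurd (Nat.eq_of_beq_eq_true h) (by omega)
        · exact h
      rcases Nat.lt_succ_iff_lt_or_eq.mp hab with hab' | rfl
      · exact (ih hab' (by omega)).trans hstep
      · exact hstep
  have hS := (phi_ext hF).mp h
  by_contra hne
  have hsame : ∀ S < 35, fld (form i) S = fld (form j) S := fun S hS' =>
    cast_inj hF (form_lt hF i.2 hS') (form_lt hF j.2 hS') (hS S hS')
  have hrec : ∀ a : Fin 1080, pack (fld (form a)) 35 = form a := fun a =>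
    Nat.eq_of_beq_eq_true (List.all_eq_true.mp pack_ok a (List.mem_range.mpr a.2))
  have he : form i = form j := by
    rw [← hrec i, ← hrec j]
    have : ∀ k ≤ 35, pack (fld (form i)) k = pack (fld (form j)) k := by
      intro k hk
      induction k with
      | zero => rfl
      | succ k ih => rw [pack, pack, ih (by omega), hsame k (by omega)]
    exact this 35 le_rfl
  rcases Nat.lt_trichotomy (i : ℕ) j with hlt' | heq | hgt
  · exact (hlt _ _ hlt' j.2).ne he
  · exact hne (Fin.ext heq)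
  · exact (hlt _ _ hgt i.2).ne he.symm

theorem perms_inv {g : Cfsg.Omega F ⇑(Qo (F := F) 3)} (hg : Perms g) : Perms g⁻¹ := by
  choose f hf using hg
  have hginv : ∀ u : Idx → F, g.1.1.1 *ᵥ (g⁻¹).1.1.1 *ᵥ u = u := fun u => by
    rw [Matrix.mulVec_mulVec]
    show ((g * g⁻¹).1.1.1) *ᵥ u = u
    rw [mul_inv_cancel]
    exact Matrix.one_mulVec u
  have hinj : Function.Injective f := fun a b e => forms_inj hF (funext fun u => funext fun v => funext fun w => by
    have ha := hf a ((g⁻¹).1.1.1 *ᵥ u) ((g⁻¹).1.1.1 *ᵥ v) ((g⁻¹).1.1.1 *ᵥ w)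
    have hb := hf b ((g⁻¹).1.1.1 *ᵥ u) ((g⁻¹).1.1.1 *ᵥ v) ((g⁻¹).1.1.1 *ᵥ w)
    rw [hginv, hginv, hginv] at ha hb
    rw [ha, hb, e])
  intro j
  obtain ⟨i, hi⟩ := Finite.surjective_of_injective hinj j
  refine ⟨i, fun u v w => ?_⟩
  rw [← hi, ← hf, hginv, hginv, hginv]

theorem gen_lift {c : ℕ} (hc : c ∈ gens.map Prod.fst) : ∃ g : Cfsg.Omega F ⇑(Qo (F := F) 3), ∃ p : Perm (Fin 378),
    Rep 378 c p ∧ (∀ i, img g (line F i) = line F (p i)) ∧ Perms g := by
  obtain ⟨j, hj, rfl⟩ := List.getElem_of_mem hc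
  rw [List.length_map] at hj
  rw [List.getElem_map]
  have hj2 : j < 2 := gens_ok.2 ▸ hj
  obtain ⟨p, hp⟩ := small_valid _ (List.mem_map.mpr ⟨_, List.getElem_mem hj, rfl⟩)
  have h := List.all_eq_true.mp refl_ok j (List.mem_range.mpr hj2)
  simp only [Bool.and_eq_true, List.all_eq_true, Bool.not_eq_true'] at h
  obtain ⟨g, hg⟩ := omega_word hF (Nat.eq_of_beq_eq_true h.1.1)
    (fun v hv e => by have := h.1.2 v hv; rw [e] at this; exact Bool.noConfusion this) (Nat.eq_of_beq_eq_true h.2)
  refine ⟨g, p, hp, fun i => img_line hF hg ?_, fun i => ?_⟩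
  · have h := List.all_eq_true.mp (List.all_eq_true.mp imgs_ok j (List.mem_range.mpr hj2)) i (List.mem_range.mpr i.2)
    simp only [imgB] at h
    rw [List.getD_eq_getElem (l := gens) _ hj, hp i] at h
    exact h
  · have hm := List.all_eq_true.mp mats_ok.1 j (List.mem_range.mpr hj2)
    rw [beq_iff_eq] at hm
    have hp' : pullB j 0 540 = true ∧ pullB j 540 1080 = true := by
      interval_cases j
      exacts [⟨pull0a, pull0b⟩, ⟨pull1a, pull1b⟩]
    have hb : (pullIx j i < 1080) ∧ sameB (pullN j (form i)) (form (pullIx j i)) = true := by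
      have key : ∀ a b, pullB j a b = true → a ≤ (i : ℕ) → (i : ℕ) < b →
          (pullIx j i < 1080) ∧ sameB (pullN j (form i)) (form (pullIx j i)) = true := by
        intro a b hab ha hb
        have := List.all_eq_true.mp hab (i - a) (List.mem_range.mpr (by omega))
        rw [Nat.add_sub_cancel' ha, Bool.and_eq_true, Nat.blt_eq] at this
        exact this
      by_cases h : (i : ℕ) < 540
      · exact key _ _ hp'.1 (Nat.zero_le _) h
      · exact key _ _ hp'.2 (by omega) i.2
    refine ⟨⟨_, hb.1⟩, fun u v w => ?_⟩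
    rw [phi_act hF (g := j) (by omega) _ (fun v t => hm ▸ rows_of_word hF hg v t) i.2]
    exact congrFun (congrFun (congrFun ((phi_ext hF).mpr ((sameB_iff hF hb.1).mp hb.2)) u) v) w

omit hF in
/-- A permutation of the lines is carried by an element of Ω permuting the forms. -/
def Lift (g : Cfsg.Omega F ⇑(Qo (F := F) 3)) (p : SmallO) : Prop :=
  (∀ i, img g (line F i) = line F (p.1 i)) ∧ Perms g

theorem exists_lift (p : SmallO) : ∃ g : Cfsg.Omega F ⇑(Qo (F := F) 3), Lift g p := by
  obtain ⟨p, hp⟩ := p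
  suffices h : ∃ g : Cfsg.Omega F ⇑(Qo (F := F) 3), (∀ i, img g (line F i) = line F (p i)) ∧ Perms g from h
  induction hp using Subgroup.closure_induction with
  | mem x hx =>
    obtain ⟨c, hc, hr⟩ := hx
    obtain ⟨g, q, hq, hgq, hgp⟩ := gen_lift hF hc
    obtain rfl := hr.unique hq
    exact ⟨g, hgq, hgp⟩
  | one => exact ⟨1, fun i => img_one _, perms_one⟩
  | mul a b _ _ ha hb =>
    obtain ⟨g, hg, hg'⟩ := ha
    obtain ⟨h, hh, hh'⟩ := hb
    exact ⟨g * h, fun i => by rw [img_mul, hh, hg]; rfl, perms_mul hg' hh'⟩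
  | inv a _ ha =>
    obtain ⟨g, hg, hg'⟩ := ha
    refine ⟨g⁻¹, fun i => ?_, perms_inv hF hg'⟩
    conv_lhs => rw [show i = a (a⁻¹ i) from (a.apply_symm_apply i).symm, ← hg, ← img_mul, inv_mul_cancel, img_one]

/-- The element carrying a permutation of the lines. -/
noncomputable def lift (p : SmallO) : Cfsg.Omega F ⇑(Qo (F := F) 3) := (exists_lift hF p).choose

theorem lift_spec (p : SmallO) : Lift (lift hF p) p := (exists_lift hF p).choose_spec

theorem lift_unique (hcard : Nat.card SmallO = 4585351680) {g : Cfsg.Omega F ⇑(Qo (F := F) 3)} {p : SmallO}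
    (h : ∀ i, img g (line F i) = line F (p.1 i)) : g = lift hF p := by
  have hinj : Function.Injective (lift (F := F) hF) := fun a b e => Subtype.ext (Equiv.ext fun i => line_injective hF <| by
    rw [← (lift_spec hF a).1, e, (lift_spec hF b).1])
  obtain ⟨hG, -⟩ := omega_card hF
  haveI : Finite (Cfsg.Omega F ⇑(Qo (F := F) 3)) := Nat.finite_of_card_ne_zero (by rw [hG]; norm_num)
  have hbij := (Nat.bijective_iff_injective_and_card (lift (F := F) hF)).mpr ⟨hinj, hcard.trans hG.symm⟩
  obtain ⟨q, rfl⟩ := hbij.2 g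
  congr 1
  exact Subtype.ext (Equiv.ext fun i => line_injective hF (((lift_spec hF q).1 i).symm.trans (h i)))

/-- The forms fixed by the carrier of a permutation. -/
def fixF (p : SmallO) : Set (Fin 1080) := {i | ∀ u v w,
  phi (cf (F := F) i) ((lift hF p).1.1.1 *ᵥ u) ((lift hF p).1.1.1 *ᵥ v) ((lift hF p).1.1.1 *ᵥ w) = phi (cf i) u v w}

theorem lift_mul (hcard : Nat.card SmallO = 4585351680) (p q : SmallO) :
    lift (F := F) hF (p * q) = lift hF p * lift hF q :=
  (lift_unique hF hcard fun i => by rw [img_mul, (lift_spec hF q).1, (lift_spec hF p).1]; rfl).symm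

theorem mulVec_lift (hcard : Nat.card SmallO = 4585351680) (p q : SmallO) (u : Idx → F) :
    (lift (F := F) hF (p * q)).1.1.1 *ᵥ u = (lift hF p).1.1.1 *ᵥ (lift hF q).1.1.1 *ᵥ u := by
  rw [lift_mul hF hcard, Matrix.mulVec_mulVec]
  rfl

theorem fixF_conj_le (hcard : Nat.card SmallO = 4585351680) (g x : SmallO) :
    (fixF (F := F) hF x).ncard ≤ (fixF (F := F) hF (g * x * g⁻¹)).ncard := by
  choose f hf using (lift_spec (F := F) hF g⁻¹).2
  have hid : ∀ u : Idx → F, (lift hF g⁻¹).1.1.1 *ᵥ (lift hF g).1.1.1 *ᵥ u = u := fun u => by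
    rw [← mulVec_lift hF hcard, inv_mul_cancel,
      ← lift_unique hF hcard (g := 1) (p := 1) fun i => img_one _]
    exact Matrix.one_mulVec u
  refine Set.ncard_le_ncard_of_injOn f (fun i hi u v w => ?_) (fun a _ b _ e => forms_inj hF <| funext fun u =>
    funext fun v => funext fun w => ?_) (Set.toFinite _)
  · rw [← hf, ← hf, ← mulVec_lift hF hcard, ← mulVec_lift hF hcard, ← mulVec_lift hF hcard,
      show g⁻¹ * (g * x * g⁻¹) = x * g⁻¹ by group, mulVec_lift hF hcard, mulVec_lift hF hcard, mulVec_lift hF hcard]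
    exact hi _ _ _
  · have ha := hf a ((lift hF g).1.1.1 *ᵥ u) ((lift hF g).1.1.1 *ᵥ v) ((lift hF g).1.1.1 *ᵥ w)
    have hb := hf b ((lift hF g).1.1.1 *ᵥ u) ((lift hF g).1.1.1 *ᵥ v) ((lift hF g).1.1.1 *ᵥ w)
    rw [hid, hid, hid] at ha hb
    rw [ha, hb, e]

theorem fixF_pow_le (hcard : Nat.card SmallO = 4585351680) (x : SmallO) :
    fixF (F := F) hF x ⊆ fixF hF (x * x) := by
  intro i hi u v w
  rw [mulVec_lift hF hcard, mulVec_lift hF hcard, mulVec_lift hF hcard, hi, hi]

theorem yS_fix (hcard : Nat.card SmallO = 4585351680) (j : Fin 7) :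
    (fixF (F := F) hF (yS j)).ncard = fixCounts.getD j 0 := by
  have h := List.all_eq_true.mp yRefl_ok j (List.mem_range.mpr j.2)
  simp only [Bool.and_eq_true, List.all_eq_true, Bool.not_eq_true', List.mem_range] at h
  obtain ⟨g, hg⟩ := omega_word hF (Nat.eq_of_beq_eq_true h.1.1.1)
    (fun v hv e => by have := h.1.1.2 v hv; rw [e] at this; exact Bool.noConfusion this) (Nat.eq_of_beq_eq_true h.1.2)
  have hgl : g = lift hF (yS j) := lift_unique hF hcard fun i => img_line hF hg <| by
    have h2 := h.2 i i.2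
    simp only [yImgB] at h2
    rw [ev_el (y_facts j.2).1] at h2
    exact h2
  have hm := List.all_eq_true.mp mats_ok.2 j (List.mem_range.mpr j.2)
  rw [beq_iff_eq] at hm
  have hset : fixF (F := F) hF (yS j) =
      {i : Fin 1080 | sameB (pullN (j + 2) (form i)) (form i) = true} := by
    ext i
    simp only [fixF, Set.mem_setOf_eq, ← hgl]
    rw [sameB_iff hF i.2, ← phi_ext hF]
    simp only [phi_act hF (g := j + 2) (by omega) _ (fun v t => hm ▸ rows_of_word hF hg v t) i.2]
    exact ⟨fun h => funext fun u => funext fun v => funext fun w => h u v w, fun h u v w => by rw [h]⟩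
  rw [hset]
  have hc : fixCounts.getD j 0 = fixN (j + 2) := by
    rw [← fix_ok, List.getD_eq_getElem _ _ (by simp), List.getElem_map, List.getElem_range]
  rw [hc, fixN, ← List.toFinset_card_of_nodup (List.nodup_range.filter _), ← Set.ncard_image_of_injective _ Fin.val_injective,
    ← Set.ncard_coe_finset]
  congr 1
  ext k
  simp [Fin.exists_iff, and_comm]

end Field

/-- The points fixed by a permutation. -/
def fixP (p : SmallO) : Set (Fin 378) := {i | p.1 i = i}

theorem fixP_conj (g x : SmallO) : (fixP (g * x * g⁻¹)).ncard = (fixP x).ncard := by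
  have : fixP (g * x * g⁻¹) = g.1 '' fixP x := by
    ext i
    simp only [fixP, Set.mem_setOf_eq, Set.mem_image, Subgroup.coe_mul, Subgroup.coe_inv, Perm.mul_apply]
    constructor
    · intro h
      exact ⟨g.1⁻¹ i, (Perm.eq_inv_iff_eq.mpr h), g.1.apply_symm_apply i⟩
    · rintro ⟨k, hk, rfl⟩
      rw [show g.1⁻¹ (g.1 k) = k from g.1.symm_apply_apply k, hk]
  rw [this, Set.ncard_image_of_injective _ g.1.injective]

theorem yS_fixP (j : Fin 7) : (fixP (yS j)).ncard = [54, 45, 9, 0, 0, 36, 0].getD j 0 := by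
  rw [← fix378_ok, List.getD_eq_getElem _ _ (by simp), List.getElem_map, List.getElem_range,
    ← List.toFinset_card_of_nodup (List.nodup_range.filter _), ← Set.ncard_image_of_injective _ Fin.val_injective,
    ← Set.ncard_coe_finset]
  congr 1
  ext k
  simp only [fixP, Set.mem_image, Set.mem_setOf_eq, List.coe_toFinset, List.mem_filter, List.mem_range]
  constructor
  · rintro ⟨i, hi, rfl⟩
    refine ⟨i.2, ?_⟩
    rw [ev_el (y_facts j.2).1]
    show Nat.beq ((yS j).1 i) i = true
    rw [hi, Nat.beq_refl]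
  · rintro ⟨hk, h⟩
    exact ⟨⟨k, hk⟩, Fin.ext ((ev_el (y_facts j.2).1 ⟨k, hk⟩).symm.trans (Nat.eq_of_beq_eq_true h)), rfl⟩

theorem distinct {F : Type u} [Field F] [Fintype F] (hF : Fintype.card F = 3) (hcard : Nat.card SmallO = 4585351680)
    {i j : Fin 7} {g : SmallO} (h : (zpowers (yS i)).map (MulAut.conj g).toMonoidHom = zpowers (yS j)) : i = j := by
  classical
  have hmem : g * yS i * g⁻¹ ∈ zpowers (yS j) := h ▸ ⟨yS i, mem_zpowers _, rfl⟩
  obtain ⟨k, hk⟩ := mem_zpowers_iff.mp hmem
  have hk' : g * yS i * g⁻¹ = yS j ∨ g * yS i * g⁻¹ = yS j * yS j := by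
    have h3 : yS j ^ (3 : ℤ) = 1 := by exact_mod_cast (yS_order j).1
    rw [← hk, ← Int.emod_add_mul_ediv k 3, zpow_add, zpow_mul, h3, one_zpow, mul_one]
    have h0 := Int.emod_nonneg k (show (3 : ℤ) ≠ 0 by norm_num)
    have h2 := Int.emod_lt_of_pos k (show (0 : ℤ) < 3 by norm_num)
    interval_cases hk3 : k % 3
    · exfalso
      rw [← Int.emod_add_mul_ediv k 3, hk3, zero_add, zpow_mul, h3, one_zpow] at hk
      exact (yS_order i).2 (conj_eq_one_iff.mp hk.symm)
    · exact Or.inl (zpow_one _)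
    · exact Or.inr (zpow_two _)
  have hsq : yS j * yS j * (yS j * yS j) = yS j := by
    rw [← pow_two, ← pow_two, ← pow_mul, show 2 * 2 = 3 + 1 from rfl, pow_add, (yS_order j).1, one_mul, pow_one]
  have e1 : (fixP (g * yS i * g⁻¹)).ncard = (fixP (yS j)).ncard := by
    rcases hk' with e | e <;> rw [e]
    have hP : ∀ y : SmallO, fixP y ⊆ fixP (y * y) := fun y a ha => by
      show y.1 (y.1 a) = a
      rw [ha, ha]
    have h1 := hP (yS j * yS j)
    rw [hsq] at h1
    rw [Set.Subset.antisymm h1 (hP _)]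
  have e2 : (fixF (F := F) hF (g * yS i * g⁻¹)).ncard = (fixF (F := F) hF (yS j)).ncard := by
    rcases hk' with e | e <;> rw [e]
    have h1 := fixF_pow_le (F := F) hF hcard (yS j * yS j)
    rw [hsq] at h1
    rw [Set.Subset.antisymm h1 (fixF_pow_le hF hcard _)]
  have e3 : (fixF (F := F) hF (g * yS i * g⁻¹)).ncard = (fixF (F := F) hF (yS i)).ncard := by
    refine le_antisymm ?_ (fixF_conj_le hF hcard g _)
    have h5 := fixF_conj_le (F := F) hF hcard g⁻¹ (g * yS i * g⁻¹)
    rwa [show g⁻¹ * (g * yS i * g⁻¹) * g⁻¹⁻¹ = yS i by group] at h5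
  rw [fixP_conj, yS_fixP, yS_fixP] at e1
  rw [e3, yS_fix hF hcard, yS_fix hF hcard] at e2
  revert e1 e2
  clear * - i j
  revert i j
  decide +kernel

end CfsgLib.O7Classes
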