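/-
Ω₇(3) has exactly seven classes of subgroups of order three.
-/
import Cfsg.Agent.Lib.O7Classes.Forms

set_option autoImplicit false
set_option linter.style.haveILetI false

namespace CfsgLib.O7Classes

open CfsgPC CfsgLib.O7Mult
open CfsgLib.StdQuadForms (Qo Qo_apply)

universe u

theorem seven_classes {F : Type u} [Field F] [Fintype F] (hF : Fintype.card F = 3) :
    ∃ Y : Fin 7 → Subgroup (Cfsg.POmega F (Cfsg.quadFormOdd 3 F)), (∀ i, Nat.card (Y i) = 3) ∧
      (∀ i j, (∃ g, (Y i).map (MulAut.conj g).toMonoidHom = Y j) → i = j) ∧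
      (∀ X : Subgroup (Cfsg.POmega F (Cfsg.quadFormOdd 3 F)), Nat.card X = 3 →
        ∃ i, ∃ g, X.map (MulAut.conj g).toMonoidHom = Y i) := by
  classical
  rw [show Cfsg.quadFormOdd 3 F = ⇑(Qo (F := F) 3) from funext fun v => (Qo_apply _ v).symm]
  obtain ⟨hp, hcard, ⟨e0⟩⟩ := small_model hF
  obtain ⟨-, hZb⟩ := omega_card hF
  let e : Cfsg.POmega F ⇑(Qo (F := F) 3) ≃* SmallO :=
    ((QuotientGroup.quotientMulEquivOfEq hZb).trans QuotientGroup.quotientBot).trans e0
  have key : ∀ (X : Subgroup (Cfsg.POmega F ⇑(Qo (F := F) 3))) g,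
      (X.map (MulAut.conj g).toMonoidHom).map e.toMonoidHom =
        (X.map e.toMonoidHom).map (MulAut.conj (e g)).toMonoidHom := by
    intro X g
    rw [Subgroup.map_map, Subgroup.map_map]
    congr 1
    ext x
    simp
  refine ⟨fun i => (Subgroup.zpowers (yS i)).map e.symm.toMonoidHom, fun i => ?_, fun i j ⟨g, hg⟩ => ?_, fun X hX => ?_⟩
  · rw [Subgroup.card_map_of_injective e.symm.injective, yS_card]
  · have h := congrArg (Subgroup.map e.toMonoidHom) hg
    have hid : ∀ H : Subgroup SmallO, (H.map e.symm.toMonoidHom).map e.toMonoidHom = H := fun H => by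
      rw [Subgroup.map_map,
        show e.toMonoidHom.comp e.symm.toMonoidHom = MonoidHom.id _ from MonoidHom.ext fun x => e.apply_symm_apply x,
        Subgroup.map_id]
    simp only [key, hid] at h
    exact distinct hF hcard h
  · obtain ⟨i, g, h⟩ := cover hp hcard (X.map e.toMonoidHom) (by rw [Subgroup.card_map_of_injective e.injective, hX])
    refine ⟨i, e.symm g, Subgroup.map_injective (f := e.toMonoidHom) e.injective ?_⟩
    rw [key, e.apply_symm_apply, h, Subgroup.map_map,
      show e.toMonoidHom.comp e.symm.toMonoidHom = MonoidHom.id _ from MonoidHom.ext fun x => e.apply_symm_apply x,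
      Subgroup.map_id]

end CfsgLib.O7Classes
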